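import Cfsg.Agent.Lib.Fischer.Classes
import Cfsg.Agent.Lib.Core.Layer

/-!
# Classes of 3-transpositions acting on an elementary abelian self-centralizing 2-core
-/

set_option autoImplicit false
set_option linter.style.haveILetI false

namespace Cfsg.Lib.Fischer.UniqueClass

open Cfsg Cfsg.Lib.Fischer

/-- The 2-core seen as a faithful module in characteristic two. -/
structure Core (G M : Type*) [Group G] [AddCommGroup M] where
  act : G → M →+ M
  emb : M → G
  emb_add : ∀ x y, emb (x + y) = emb x * emb y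
  emb_inj : Function.Injective emb
  emb_mem : ∀ x, emb x ∈ pCore 2 G
  emb_surj : ∀ v ∈ pCore 2 G, ∃ x, emb x = v
  emb_act : ∀ g x, emb (act g x) = g * emb x * g⁻¹
  two : ∀ x : M, x + x = 0
  faith : ∀ g, (∀ x, act g x = x) → g ∈ pCore 2 G
  centerless : Subgroup.center G = ⊥

variable {G M : Type*} [Group G] [Finite G] [AddCommGroup M] (V : Core G M)

/-- Reduction modulo the 2-core. -/
abbrev red : G →* G ⧸ pCore 2 G := QuotientGroup.mk' (pCore 2 G)

namespace Core

omit [Finite G]

theorem emb_zero : V.emb 0 = 1 := by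
  have h := V.emb_add 0 0
  rw [add_zero] at h
  exact left_eq_mul.1 h

theorem emb_inv (x : M) : (V.emb x)⁻¹ = V.emb x :=
  inv_eq_of_mul_eq_one_right (by rw [← V.emb_add, V.two, V.emb_zero])

theorem eq_of_add (V : Core G M) (x y : M) (h : x + y = 0) : x = y := by
  calc x = x + (y + y) := by rw [V.two, add_zero]
    _ = y := by rw [← add_assoc, h, zero_add]

theorem act_mul (g h : G) (x : M) : V.act (g * h) x = V.act g (V.act h x) := by
  apply V.emb_inj
  simp only [V.emb_act]
  group

theorem act_one (x : M) : V.act 1 x = x := by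
  apply V.emb_inj
  simp [V.emb_act]

theorem act_mem {v : G} (hv : v ∈ pCore 2 G) (x : M) : V.act v x = x := by
  obtain ⟨y, rfl⟩ := V.emb_surj v hv
  apply V.emb_inj
  rw [V.emb_act, ← V.emb_add, add_comm, V.emb_add, mul_inv_cancel_right]

theorem act_congr {a b : G} (h : red a = red b) (x : M) : V.act a x = V.act b x := by
  have h1 : a⁻¹ * b ∈ pCore 2 G := QuotientGroup.eq.1 h
  have e : b = a * (a⁻¹ * b) := by group
  rw [e, V.act_mul, V.act_mem h1]

theorem emb_comm (g : G) (x : M) : g * V.emb x = V.emb (V.act g x) * g := by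
  rw [V.emb_act, inv_mul_cancel_right]

theorem act_of_commute {g : G} {x : M} (h : Commute g (V.emb x)) : V.act g x = x := by
  apply V.emb_inj
  rw [V.emb_act, h.eq, mul_inv_cancel_right]

theorem commute_of_act {g : G} {x : M} (h : V.act g x = x) : Commute g (V.emb x) := by
  show g * V.emb x = V.emb x * g
  rw [V.emb_comm, h]

theorem act_act_self {g : G} (h : g * g = 1) (x : M) : V.act g (V.act g x) = x := by
  rw [← V.act_mul, h, V.act_one]

/-- The displacement map of an element. -/
def mv (g : G) : M →+ M := V.act g + AddMonoidHom.id M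

theorem mv_apply (g : G) (x : M) : V.mv g x = V.act g x + x := rfl

/-- The displacements of an element. -/
def A (g : G) : AddSubgroup M := (V.mv g).range

theorem mem_A {g : G} {z : M} : z ∈ V.A g ↔ ∃ x, V.mv g x = z := Iff.rfl

theorem mv_mem (g : G) (x : M) : V.mv g x ∈ V.A g := ⟨x, rfl⟩

theorem act_eq {g : G} {x : M} : V.act g x = x ↔ V.mv g x = 0 := by
  rw [V.mv_apply]
  exact ⟨fun h => by rw [h, V.two], V.eq_of_add _ _⟩

theorem act_eq_add (g : G) (x : M) : V.act g x = V.mv g x + x := by
  rw [V.mv_apply, add_assoc, V.two, add_zero]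

theorem mv_congr {a b : G} (h : red a = red b) (x : M) : V.mv a x = V.mv b x := by
  rw [V.mv_apply, V.mv_apply, V.act_congr h]

theorem A_congr {a b : G} (h : red a = red b) : V.A a = V.A b :=
  congrArg AddMonoidHom.range (AddMonoidHom.ext (V.mv_congr h))

theorem mv_mv {g : G} (h : g * g = 1) (x : M) : V.mv g (V.mv g x) = 0 := by
  rw [V.mv_apply, V.mv_apply, map_add, V.act_act_self h, add_comm x, V.two]

theorem mv_of_mem_self {g : G} (h : g * g = 1) {z : M} (hz : z ∈ V.A g) : V.mv g z = 0 := by
  obtain ⟨x, rfl⟩ := hz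
  exact V.mv_mv h x

/-- Conjugation permutes the displacement maps. -/
theorem act_mv (g d : G) (x : M) : V.act g (V.mv d x) = V.mv (g * d * g⁻¹) (V.act g x) := by
  rw [V.mv_apply, V.mv_apply, map_add, ← V.act_mul, ← V.act_mul (g * d * g⁻¹), inv_mul_cancel_right]

theorem act_mem_A {g d : G} {z : M} (hz : z ∈ V.A d) : V.act g z ∈ V.A (g * d * g⁻¹) := by
  obtain ⟨x, rfl⟩ := hz
  rw [V.act_mv]
  exact V.mv_mem _ _

/-- Conjugating by an element of the core multiplies by a displacement. -/
theorem emb_conj {d : G} (hd : d * d = 1) (x : M) :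
    V.emb x * d * (V.emb x)⁻¹ = d * V.emb (V.mv d x) := by
  rw [V.mv_apply, V.emb_add, V.emb_act, V.emb_inv, inv_eq_of_mul_eq_one_right hd]
  simp only [← mul_assoc, hd, one_mul]

theorem finite (V : Core G M) [Finite G] : Finite M := Finite.of_injective V.emb V.emb_inj

end Core

variable {D : Set G}

omit [Finite G] in
theorem red_eq_iff (hD : Trans D) {a b : G} (ha : a ∈ D) : red a = red b ↔ a * b ∈ pCore 2 G := by
  show (QuotientGroup.mk a : G ⧸ pCore 2 G) = QuotientGroup.mk b ↔ _
  rw [QuotientGroup.eq, inv_eq hD ha]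

theorem sameComm_of_red (hD : Trans D) {a b : G} (ha : a ∈ D) (hb : b ∈ D) (h : red a = red b) :
    SameComm D a b :=
  (sameComm_iff hD ha hb).2 ((red_eq_iff hD ha).1 h)

theorem red_of_sameComm (hD : Trans D) {a b : G} (ha : a ∈ D) (hb : b ∈ D) (h : SameComm D a b) :
    red a = red b :=
  (red_eq_iff hD ha).2 ((sameComm_iff hD ha hb).1 h)

theorem commute_of_red_commute (hD : Trans D) {a b : G} (ha : a ∈ D) (hb : b ∈ D)
    (h : Commute (red a) (red b)) : Commute a b := by
  by_contra hn
  have h3 : red (a * b) ^ 3 = 1 := by rw [← map_pow, orderOf_mul hD a b ha hb hn, map_one]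
  have h2 : red (a * b) ^ 2 = 1 := by
    rw [map_mul, h.mul_pow, ← map_pow, ← map_pow, pow_two, pow_two, mul_self hD ha, mul_self hD hb, map_one,
      one_mul]
  rw [pow_succ, h2, one_mul] at h3
  exact hn (commute_of_mem_two hD ha hb ((QuotientGroup.eq_one_iff _).1 h3))

omit [Finite G] in
theorem exists_two (V : Core G M) (hD : Trans D) : ∃ a ∈ D, ∃ b ∈ D, a ≠ b := by
  by_contra h
  push Not at h
  obtain ⟨d, hd⟩ := hD.ne
  have hc : d ∈ Subgroup.center G := Subgroup.mem_center_iff.2 fun g => by
    have := h _ (hD.conj g d hd) d hd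
    rwa [mul_inv_eq_iff_eq_mul] at this
  rw [V.centerless, Subgroup.mem_bot] at hc
  exact ne_one hD hd hc

theorem notMem_core (V : Core G M) (hD : Trans D) {d : G} (hd : d ∈ D) : d ∉ pCore 2 G := by
  intro hdV
  obtain ⟨e, he, hn⟩ := exists_noncommuting hD (exists_two V hD) hd
  obtain ⟨g, rfl⟩ := hD.trans d hd e he
  refine hn (commute_of_mem_two hD hd he ?_)
  exact mul_mem hdV (Subgroup.Normal.conj_mem inferInstance d hdV g)

variable {a b c d p q : G}

/-- Commuting members fix each other's displacements. -/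
theorem mv_of_commute (hD : Trans D) (hd : d ∈ D) (ha : a ∈ D) (hc : Commute a d) {z : M}
    (hz : z ∈ V.A d) : V.mv a z = 0 := by
  obtain ⟨x, rfl⟩ := hz
  have hd' : d * V.emb (V.mv d x) ∈ D := V.emb_conj (mul_self hD hd) x ▸ hD.conj _ d hd
  have hs : SameComm D d (d * V.emb (V.mv d x)) := (sameComm_iff hD hd hd').2 (by
    rw [← mul_assoc, mul_self hD hd, one_mul]; exact V.emb_mem _)
  have h1 : Commute (d * V.emb (V.mv d x)) a := (hs a ha).1 hc.symm
  have h2 := hc.mul_right h1.symm
  rw [← mul_assoc, mul_self hD hd, one_mul] at h2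
  exact V.act_eq.1 (V.act_of_commute h2)

/-- Displacements come back along a line. -/
theorem mv_mv_back (hD : Trans D) (hd : d ∈ D) (ha : a ∈ D) (hn : ¬ Commute d a) {y : M}
    (hy : y ∈ V.A d) : V.mv d (V.mv a y) = y := by
  have hfix : V.act d y = y := V.act_eq.2 (V.mv_of_mem_self (mul_self hD hd) hy)
  obtain ⟨x, rfl⟩ := hy
  have hd' : d * V.emb (V.mv d x) ∈ D := V.emb_conj (mul_self hD hd) x ▸ hD.conj _ d hd
  set y := V.mv d x
  have hs : SameComm D d (d * V.emb y) := (sameComm_iff hD hd hd').2 (by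
    rw [← mul_assoc, mul_self hD hd, one_mul]; exact V.emb_mem _)
  have hn' : ¬ Commute (d * V.emb y) a := fun h => hn ((hs a ha).2 h).symm.symm
  have hb := braid hD hd' ha hn'
  have hc : d * a * d = a * d * a := braid hD hd ha hn
  have hl : cj (d * V.emb y) a = V.emb (y + V.act (d * a * d) y) * (d * a * d) := by
    calc cj (d * V.emb y) a = (d * V.emb y) * a * (d * V.emb y) := rfl
      _ = V.emb y * (d * a * d) * V.emb y := by
        nth_rw 1 [show d * V.emb y = V.emb y * d by rw [V.emb_comm d, hfix]]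
        simp only [mul_assoc]
      _ = V.emb y * ((d * a * d) * V.emb y) := by rw [mul_assoc]
      _ = _ := by rw [V.emb_comm (d * a * d), V.emb_add]; simp only [mul_assoc]
  have hr : cj a (d * V.emb y) = V.emb (V.act (a * d) y) * (a * d * a) := by
    calc cj a (d * V.emb y) = ((a * d) * V.emb y) * a := by simp only [cj_def, mul_assoc]
      _ = _ := by rw [V.emb_comm (a * d)]; simp only [mul_assoc]
  rw [hl, hr, ← hc, mul_left_inj] at hb
  have h1 := V.emb_inj hb
  rw [V.act_mul a d, hfix, V.act_mul, hfix, V.act_mul] at h1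
  have h2 : V.act d (V.act a y) = y + V.act a y := by
    calc V.act d (V.act a y) = (y + y) + V.act d (V.act a y) := by rw [V.two, zero_add]
      _ = _ := by rw [add_assoc, h1]
  rw [V.mv_apply a, map_add, V.mv_of_mem_self (mul_self hD hd) (V.mv_mem d x), add_zero, V.mv_apply, h2,
    add_assoc, V.two, add_zero]

theorem eq_zero_of_fixed (hD : Trans D) (hd : d ∈ D) (ha : a ∈ D) (hn : ¬ Commute d a) {y : M}
    (hy : y ∈ V.A d) (h : V.mv a y = 0) : y = 0 := by
  rw [← mv_mv_back V hD hd ha hn hy, h, map_zero]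

/-- The third member of a line on the displacements of an end. -/
theorem mv_third (hD : Trans D) (hd : d ∈ D) (ha : a ∈ D) (hn : ¬ Commute d a) {y : M}
    (hy : y ∈ V.A d) : V.mv (cj d a) y = y + V.mv a y := by
  have hfix : V.act d y = y := V.act_eq.2 (V.mv_of_mem_self (mul_self hD hd) hy)
  have h := mv_mv_back V hD hd ha hn hy
  rw [V.mv_apply (cj d a), cj_def, V.act_mul, hfix, V.act_mul]
  conv_lhs => rw [V.act_eq_add a y, map_add, hfix, V.act_eq_add d (V.mv a y), h]
  rw [add_assoc (y + V.mv a y), V.two, add_zero]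

/-- A member off a line meets the span of the line trivially. -/
theorem eq_zero_of_line (hD : Trans D) (ha : a ∈ D) (hp : p ∈ D) (hq : q ∈ D) (hpq : ¬ Commute p q)
    (hap : ¬ Commute a p) (haq : ¬ Commute a q) (har : ¬ Commute a (cj p q)) {u α β : M}
    (hu : u ∈ V.A a) (hα : α ∈ V.A p) (hβ : β ∈ V.A q) (e : u = α + β) : u = 0 := by
  have h1 : V.mv p u = V.mv p β := by
    rw [e, map_add, V.mv_of_mem_self (mul_self hD hp) hα, zero_add]
  have h2 : V.mv q u = V.mv q α := by
    rw [e, map_add, V.mv_of_mem_self (mul_self hD hq) hβ, add_zero]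
  have h3 : V.mv (cj p q) u = (α + V.mv q α) + (β + V.mv p β) := by
    rw [e, map_add, mv_third V hD hp hq hpq hα]
    nth_rw 1 [braid hD hp hq hpq]
    rw [mv_third V hD hq hp (fun h => hpq h.symm) hβ]
  have hsum : V.mv p u + V.mv q u + V.mv (cj p q) u = u := by
    rw [h1, h2, h3, e]
    have : V.mv p β + V.mv q α + ((α + V.mv q α) + (β + V.mv p β)) =
        α + β + ((V.mv p β + V.mv p β) + (V.mv q α + V.mv q α)) := by abel
    rw [this, V.two, V.two, add_zero, add_zero]
  have hk := congrArg (V.mv a) hsum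
  rw [map_add, map_add, mv_mv_back V hD ha hp hap hu, mv_mv_back V hD ha hq haq hu,
    mv_mv_back V hD ha (cj_mem hD hp hq) har hu, V.mv_of_mem_self (mul_self hD ha) hu, V.two, zero_add] at hk
  exact hk

/-- The fixed points of the third member in the span of a line. -/
theorem mem_of_line_fixed (hD : Trans D) (hp : p ∈ D) (hq : q ∈ D) (hpq : ¬ Commute p q) {u α β : M}
    (hα : α ∈ V.A p) (hβ : β ∈ V.A q) (e : u = α + β) (h : V.mv (cj p q) u = 0) : u ∈ V.A (cj p q) := by
  have hb : V.mv (cj p q) β = β + V.mv p β := by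
    rw [braid hD hp hq hpq, mv_third V hD hq hp (fun h => hpq h.symm) hβ]
  rw [e, map_add, mv_third V hD hp hq hpq hα, hb] at h
  have h' := congrArg (V.mv p) h
  rw [map_add, map_add, map_add, map_zero, V.mv_of_mem_self (mul_self hD hp) hα, zero_add,
    mv_mv_back V hD hp hq hpq hα, V.mv_mv (mul_self hD hp), add_zero] at h'
  rw [e, Core.eq_of_add V _ _ h']
  rw [add_comm, ← hb]
  exact V.mv_mem _ _

/-- Displacement spaces of incongruent members meet trivially. -/
theorem red_of_common (hD : Trans D) (hd : d ∈ D) (ha : a ∈ D) {z : M} (h1 : z ∈ V.A d) (h2 : z ∈ V.A a)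
    (hz : z ≠ 0) : red d = red a := by
  refine red_of_sameComm hD hd ha fun e he => ⟨fun h => ?_, fun h => ?_⟩
  · by_contra hn
    exact hz (eq_zero_of_fixed V hD ha he hn h2 (mv_of_commute V hD hd he h.symm h1))
  · by_contra hn
    exact hz (eq_zero_of_fixed V hD hd he hn h1 (mv_of_commute V hD ha he h.symm h2))

theorem exists_mem_A (hD : Trans D) (hd : d ∈ D) : ∃ z ∈ V.A d, z ≠ 0 := by
  by_contra h
  push Not at h
  exact notMem_core V hD hd (V.faith d fun x => V.act_eq.2 (h _ (V.mv_mem d x)))

/-- An element that is an involution and central modulo the 2-core lies in it. -/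
theorem mem_core_of_central (x : G) (hx : red x * red x = 1) (hc : ∀ g : G, Commute (red x) (red g)) :
    x ∈ pCore 2 G := by
  let N : Subgroup G := (Subgroup.zpowers (red x)).comap red
  haveI hN : N.Normal := by
    haveI : (Subgroup.zpowers (red x)).Normal := by
      refine ⟨fun y hy g => ?_⟩
      obtain ⟨g, rfl⟩ := QuotientGroup.mk'_surjective (pCore 2 G) g
      obtain ⟨k, rfl⟩ := Subgroup.mem_zpowers_iff.1 hy
      rw [((hc g).zpow_left k).symm.eq, mul_inv_cancel_right]
      exact zpow_mem (Subgroup.mem_zpowers _) k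
    exact Subgroup.normal_comap _
  have hp : IsPGroup 2 N := by
    rintro ⟨g, hg⟩
    obtain ⟨k, hk⟩ := Subgroup.mem_zpowers_iff.1 (Subgroup.mem_comap.1 hg)
    have h2 : g * g ∈ pCore 2 G := by
      refine (QuotientGroup.eq_one_iff _).1 ?_
      show red (g * g) = 1
      rw [map_mul, ← hk, ← (Commute.refl (red x)).mul_zpow, hx, one_zpow]
    obtain ⟨i, hi⟩ := Lib.Core.pCore_isPGroup 2 G ⟨_, h2⟩
    refine ⟨i + 1, Subtype.ext ?_⟩
    have := congrArg Subtype.val hi
    simp only [SubmonoidClass.coe_pow, Subgroup.coe_one] at this ⊢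
    rw [pow_succ', pow_mul, pow_two]
    exact this
  exact Lib.Core.le_pCore' hN hp (Subgroup.mem_comap.2 (Subgroup.mem_zpowers _))

end Cfsg.Lib.Fischer.UniqueClass
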