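import Cfsg.Agent.Lib.Fischer.UniqueClass.Mixed

/-!
# Uniqueness of the class of 3-transpositions
-/

set_option autoImplicit false
set_option linter.style.haveILetI false

namespace Cfsg.Lib.Fischer.UniqueClass

open Cfsg Cfsg.Lib.Fischer

variable {G M : Type*} [Group G] [Finite G] [AddCommGroup M] (V : Core G M) {D E : Set G}
  {a b c d e : G}

/-- `x` is the correction carrying `d` into the second class. -/
def Phi (E : Set G) (d : G) (x : M) : Prop := d * V.emb x ∈ E

omit [Finite G] in
theorem red_mul_emb (d : G) (x : M) : red (d * V.emb x) = red d := by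
  rw [map_mul, show red (V.emb x) = 1 from (QuotientGroup.eq_one_iff _).2 (V.emb_mem x), mul_one]

theorem exists_phi (hD : Trans D) (hE : Trans E) (hd : d ∈ D) : ∃ x, Phi V E d x := by
  obtain ⟨e, he, h⟩ := exists_red_eq V hE hD hd
  obtain ⟨x, hx⟩ := V.emb_surj (d⁻¹ * e) (QuotientGroup.eq.1 h.symm)
  exact ⟨x, by show d * V.emb x ∈ E; rw [hx, mul_inv_cancel_left]; exact he⟩

omit [Finite G] in
theorem phi_fixed (hD : Trans D) (hE : Trans E) (hd : d ∈ D) {x : M} (h : Phi V E d x) : V.mv d x = 0 := by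
  apply V.emb_inj
  rw [V.mv_apply, V.emb_add, V.emb_act, inv_eq hD hd, V.emb_zero, mul_assoc (d * V.emb x)]
  exact mul_self hE h

omit [Finite G] in
theorem phi_add (hE : Trans E) {x y : M} (h : Phi V E d x) (hy : y ∈ V.A d) : Phi V E d (x + y) := by
  obtain ⟨w, rfl⟩ := hy
  have h1 := hE.conj (V.emb w) _ h
  rw [V.emb_conj (mul_self hE h), V.mv_congr (red_mul_emb V d x), mul_assoc, ← V.emb_add] at h1
  exact h1

theorem phi_sub (hE : Trans E) {x y : M} (h : Phi V E d x) (h' : Phi V E d y) : x + y ∈ V.A d := by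
  obtain ⟨g, hg, he⟩ := orbit_two hE (exists_two V hE) h h'
    (sameComm_of_red hE h h' (by rw [red_mul_emb, red_mul_emb]))
  obtain ⟨w, rfl⟩ := V.emb_surj g hg
  rw [V.emb_conj (mul_self hE h), V.mv_congr (red_mul_emb V d x), mul_assoc, mul_right_inj, ← V.emb_add] at he
  rw [V.emb_inj he, ← add_assoc, V.two, zero_add]
  exact V.mv_mem _ _

theorem phi_congr (hD : Trans D) (hE : Trans E) (hd : d ∈ D) (ha : a ∈ D) (h : red d = red a) {x : M}
    (hx : Phi V E a x) : Phi V E d x := by
  obtain ⟨g, hg, he⟩ := orbit_two hD (exists_two V hD) hd ha (sameComm_of_red hD hd ha h)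
  obtain ⟨w, rfl⟩ := V.emb_surj g hg
  rw [V.emb_conj (mul_self hD hd)] at he
  have h1 : Phi V E d (V.mv d w + x) := by
    show d * V.emb (V.mv d w + x) ∈ E
    rw [V.emb_add, ← mul_assoc, ← he]
    exact hx
  have h2 := phi_add V hE h1 (V.mv_mem d w)
  rwa [add_comm (V.mv d w), add_assoc, V.two, add_zero] at h2

theorem not_commute_phi (hD : Trans D) (hd : d ∈ D) (hb : b ∈ D) (hn : ¬ Commute d b) (x y : M) :
    ¬ Commute (d * V.emb x) (b * V.emb y) := fun h => hn (commute_of_red_commute hD hd hb (by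
    have := h.map (red (G := G)); rwa [red_mul_emb, red_mul_emb] at this))

/-- Corrections of non-commuting members fixed by the other one agree. -/
theorem phi_unique_pair (hD : Trans D) (hE : Trans E) (hd : d ∈ D) (hb : b ∈ D) (hn : ¬ Commute d b)
    {x y : M} (hx : Phi V E d x) (hy : Phi V E b y) (hxb : V.mv b x = 0) (hyd : V.mv d y = 0) : x = y := by
  have c1 := V.commute_of_act (V.act_eq.2 (phi_fixed V hD hE hd hx))
  have c2 := V.commute_of_act (V.act_eq.2 hxb)
  have c3 := V.commute_of_act (V.act_eq.2 (phi_fixed V hD hE hb hy))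
  have c4 := V.commute_of_act (V.act_eq.2 hyd)
  have c5 : Commute (V.emb x) (V.emb y) := by
    show V.emb x * V.emb y = V.emb y * V.emb x
    rw [← V.emb_add, ← V.emb_add, add_comm]
  have c6 : V.emb x * V.emb x = 1 := by rw [← V.emb_add, V.two, V.emb_zero]
  have c7 : V.emb y * V.emb y = 1 := by rw [← V.emb_add, V.two, V.emb_zero]
  have e1 : cj (d * V.emb x) (b * V.emb y) = d * b * d * V.emb y := by
    calc cj (d * V.emb x) (b * V.emb y) = d * (V.emb x * b) * (V.emb y * d) * V.emb x := by
          simp only [cj_def, mul_assoc]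
      _ = d * (b * V.emb x) * (d * V.emb y) * V.emb x := by rw [c2.eq, c4.eq]
      _ = d * b * (V.emb x * d) * (V.emb y * V.emb x) := by simp only [mul_assoc]
      _ = d * b * (d * V.emb x) * (V.emb x * V.emb y) := by rw [c1.eq, c5.eq]
      _ = d * b * d * ((V.emb x * V.emb x) * V.emb y) := by simp only [mul_assoc]
      _ = _ := by rw [c6, one_mul]
  have e2 : cj (b * V.emb y) (d * V.emb x) = b * d * b * V.emb x := by
    calc cj (b * V.emb y) (d * V.emb x) = b * (V.emb y * d) * (V.emb x * b) * V.emb y := by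
          simp only [cj_def, mul_assoc]
      _ = b * (d * V.emb y) * (b * V.emb x) * V.emb y := by rw [c4.eq, c2.eq]
      _ = b * d * (V.emb y * b) * (V.emb x * V.emb y) := by simp only [mul_assoc]
      _ = b * d * (b * V.emb y) * (V.emb y * V.emb x) := by rw [c3.eq, c5.eq]
      _ = b * d * b * ((V.emb y * V.emb y) * V.emb x) := by simp only [mul_assoc]
      _ = _ := by rw [c7, one_mul]
  have h := braid hE hx hy (not_commute_phi V hD hd hb hn x y)
  rw [e1, e2] at h
  have h' : d * b * d = b * d * b := braid hD hd hb hn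
  rw [h', mul_right_inj] at h
  exact (V.emb_inj h).symm

/-- A correction of `d` fixed by `b`. -/
def Anchor (E : Set G) (d b : G) (x : M) : Prop := Phi V E d x ∧ V.mv b x = 0

theorem exists_anchor (hD : Trans D) (hE : Trans E) (hd : d ∈ D) (hb : b ∈ D) (hn : ¬ Commute d b) :
    ∃ x, Anchor V E d b x := by
  obtain ⟨v, hv⟩ := exists_phi V hD hE hd
  refine ⟨v + V.mv d (V.mv b v), phi_add V hE hv (V.mv_mem _ _), ?_⟩
  rw [map_add, mv_mv_back V hD hb hd (fun h => hn h.symm) (V.mv_mem b v), V.two]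

theorem anchor_unique (hD : Trans D) (hE : Trans E) (hd : d ∈ D) (hb : b ∈ D) (hn : ¬ Commute d b)
    {x y : M} (hx : Anchor V E d b x) (hy : Anchor V E d b y) : x = y :=
  Core.eq_of_add V _ _ (eq_zero_of_fixed V hD hd hb hn (phi_sub V hE hx.1 hy.1)
    (by rw [map_add, hx.2, hy.2, add_zero]))

theorem anchor_symm (hD : Trans D) (hE : Trans E) (hd : d ∈ D) (hb : b ∈ D) (hn : ¬ Commute d b)
    {x : M} (hx : Anchor V E d b x) : Anchor V E b d x := by
  obtain ⟨y, hy⟩ := exists_anchor V hD hE hb hd (fun h => hn h.symm)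
  rw [phi_unique_pair V hD hE hd hb hn hx.1 hy.1 hx.2 hy.2]
  exact hy

/-- The anchors at a member agree for all its non-commuting partners. -/
theorem anchor_eq (hD : Trans D) (hE : Trans E) (hd : d ∈ D) (ha : a ∈ D) (hb : b ∈ D)
    (hdb : ¬ Commute d b) (hab : ¬ Commute a b) {x y : M} (hx : Anchor V E d b x) (hy : Anchor V E a b y) :
    x = y := by
  have hyA : x + y ∈ V.A b :=
    phi_sub V hE (anchor_symm V hD hE hd hb hdb hx).1 (anchor_symm V hD hE ha hb hab hy).1
  by_cases hda : Commute d a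
  · have hcomm : Commute (d * V.emb x) (a * V.emb y) := commute_of_red_commute hE hx.1 hy.1 (by
      rw [red_mul_emb, red_mul_emb]; exact hda.map _)
    have e1 : V.act a x + y = V.act d y + x := by
      have h := hcomm.eq
      rw [V.emb_comm d, V.emb_comm a] at h
      have h1 : V.emb (V.act d x) * (d * V.emb (V.act a y)) * a =
          V.emb (V.act a y) * (a * V.emb (V.act d x)) * d := by simpa only [mul_assoc] using h
      rw [V.emb_comm d, V.emb_comm a, ← mul_assoc, ← mul_assoc, ← V.emb_add, ← V.emb_add,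
        mul_assoc _ d a, mul_assoc _ a d, ← hda.eq, mul_left_inj] at h1
      have h2 := V.emb_inj h1
      rw [V.act_eq.2 (phi_fixed V hD hE hd hx.1), V.act_eq.2 (phi_fixed V hD hE ha hy.1)] at h2
      rw [add_comm _ y, ← h2, add_comm]
    have e2 : V.mv a x = V.mv d y := by
      rw [V.mv_apply, V.mv_apply]
      apply Core.eq_of_add V
      calc V.act a x + x + (V.act d y + y) = (V.act a x + y) + (V.act d y + x) := by abel
        _ = 0 := by rw [e1, V.two]
    have e3 : V.mv a (x + y) = V.mv d (x + y) := by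
      rw [map_add, map_add, phi_fixed V hD hE hd hx.1, phi_fixed V hD hE ha hy.1, e2, add_zero, zero_add]
    by_cases h0 : V.mv a (x + y) = 0
    · exact Core.eq_of_add V _ _ (eq_zero_of_fixed V hD hb ha (fun h => hab h.symm) hyA h0)
    · have hr := red_of_common V hD ha hd (V.mv_mem a _) (e3 ▸ V.mv_mem d _) h0
      exact anchor_unique V hD hE hd hb hdb hx ⟨phi_congr V hD hE hd ha hr.symm hy.1, hy.2⟩
  · obtain ⟨z, hz⟩ := exists_anchor V hD hE hd ha hda
    have h1 : x + z ∈ V.A d := phi_sub V hE hx.1 hz.1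
    have h2 : z + y ∈ V.A a := phi_sub V hE (anchor_symm V hD hE hd ha hda hz).1 hy.1
    have e : x + y = (x + z) + (z + y) := by
      rw [add_assoc, ← add_assoc z z, V.two, zero_add]
    have hr : cj d a ∈ D := cj_mem hD hd ha
    by_cases hbr : Commute b (cj d a)
    · by_contra hne
      have h0 : x + y ≠ 0 := fun h => hne (Core.eq_of_add V _ _ h)
      have hmem := mem_of_line_fixed V hD hd ha hda h1 h2 e (mv_of_commute V hD hb hr hbr.symm hyA)
      have hred := red_of_common V hD hb hr hyA hmem h0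
      have hzb : V.mv b z = 0 := by
        rw [V.mv_congr hred]
        refine V.act_eq.1 ?_
        rw [cj_def, V.act_mul, V.act_mul, V.act_eq.2 (phi_fixed V hD hE hd hz.1), V.act_eq.2 hz.2,
          V.act_eq.2 (phi_fixed V hD hE hd hz.1)]
      have hz1 := anchor_unique V hD hE hd hb hdb hx ⟨hz.1, hzb⟩
      have hz2 := anchor_unique V hD hE ha hb hab hy ⟨(anchor_symm V hD hE hd ha hda hz).1, hzb⟩
      exact hne (hz1.trans hz2.symm)
    · exact Core.eq_of_add V _ _ (eq_zero_of_line V hD hb hd ha hda (fun h => hdb h.symm)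
        (fun h => hab h.symm) hbr hyA h1 h2 e)

theorem subset_of_classes (hD : Trans D) (hE : Trans E) (V : Core G M) : D ⊆ E := by
  obtain ⟨d, hd⟩ := hD.ne
  obtain ⟨b, hb, hn⟩ := exists_noncommuting hD (exists_two V hD) hd
  obtain ⟨x, hx⟩ := exists_anchor V hD hE hd hb hn
  have key : ∀ u ∈ D, ∃ v ∈ D, ¬ Commute u v ∧ Anchor V E u v x := by
    refine closed_eq hD hd (p := fun u => ∃ v ∈ D, ¬ Commute u v ∧ Anchor V E u v x) ⟨b, hb, hn, hx⟩ ?_
    rintro u hu w hw ⟨v, hv, huv, hA⟩ huw
    obtain ⟨y, hy⟩ := exists_anchor V hD hE hw hu (fun h => huw h.symm)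
    have h := anchor_eq V hD hE hv hw hu (fun h => huv h.symm) (fun h => huw h.symm)
      (anchor_symm V hD hE hu hv huv hA) hy
    exact ⟨u, hu, fun h' => huw h'.symm, h ▸ hy⟩
  have hfix : ∀ u ∈ D, Commute u (V.emb x) := fun u hu => by
    obtain ⟨v, -, -, hA⟩ := key u hu
    exact V.commute_of_act (V.act_eq.2 (phi_fixed V hD hE hu hA.1))
  have hx1 : V.emb x = 1 := by
    have hc : V.emb x ∈ Subgroup.center G := Subgroup.mem_center_iff.2 fun g => by
      have hg : g ∈ Subgroup.closure D := hD.gen ▸ Subgroup.mem_top g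
      induction hg using Subgroup.closure_induction with
      | mem u hu => exact (hfix u hu).eq
      | one => simp
      | mul u v _ _ iu iv => exact (Commute.mul_left iu iv).eq
      | inv u _ iu => exact (Commute.inv_left iu).eq
    rwa [V.centerless, Subgroup.mem_bot] at hc
  intro u hu
  obtain ⟨v, -, -, hA⟩ := key u hu
  have h : u * V.emb x ∈ E := hA.1
  rwa [hx1, mul_one] at h

end Cfsg.Lib.Fischer.UniqueClass
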