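import Cfsg.Agent.Lib.Fischer.UniqueClass.Basic

/-!
# Two classes of 3-transpositions are congruent modulo the 2-core
-/

set_option autoImplicit false
set_option linter.style.haveILetI false

namespace Cfsg.Lib.Fischer.UniqueClass

open Cfsg Cfsg.Lib.Fischer

variable {G M : Type*} [Group G] [Finite G] [AddCommGroup M] (V : Core G M) {D E : Set G}
  {a b c d e p q : G}

omit [Finite G] in
theorem red_mul_self (hD : Trans D) (hd : d ∈ D) : red d * red d = 1 := by
  rw [← map_mul, mul_self hD hd, map_one]

omit [Finite G] in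
theorem red_cj_eq_self (hD : Trans D) (he : e ∈ D) : red (cj e d) = red d ↔ Commute (red e) (red d) := by
  rw [cj_def, map_mul, map_mul]
  constructor
  · intro h
    show red e * red d = red d * red e
    calc red e * red d = red e * red d * (red e * red e) := by rw [red_mul_self hD he, mul_one]
      _ = red d * red e := by rw [← mul_assoc, h]
  · intro h
    rw [h.eq, mul_assoc, red_mul_self hD he, mul_one]

omit [Finite G] in
theorem cj_mem_mixed (hD : Trans D) (hE : Trans E) (he : e ∈ E) (hd : d ∈ D) : cj e d ∈ D :=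
  cj_conj hE he d ▸ hD.conj e d hd

omit [Finite G] in
theorem act_mem_A_cj (hE : Trans E) (he : e ∈ E) {z : M} (hz : z ∈ V.A d) :
    V.act e z ∈ V.A (cj e d) := by
  rw [cj_conj hE he]
  exact V.act_mem_A hz

/-- An element moving `d` modulo the core fixes none of the displacements of `d`. -/
theorem eq_zero_of_moved (hD : Trans D) (hE : Trans E) (hd : d ∈ D) (he : e ∈ E)
    (hm : ¬ Commute (red e) (red d)) {z : M} (hz : z ∈ V.A d) (h : V.mv e z = 0) : z = 0 := by
  by_contra h0
  have h1 := act_mem_A_cj V hE he hz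
  rw [V.act_eq.2 h] at h1
  exact hm ((red_cj_eq_self hE he).1 (red_of_common V hD (cj_mem_mixed hD hE he hd) hd h1 hz h0))

/-- The displacement map of `e` maps those of a moved `d` onto those of `e`. -/
theorem exists_preimage (hD : Trans D) (hE : Trans E) (hd : d ∈ D) (he : e ∈ E)
    (hm : ¬ Commute (red e) (red d)) {u : M} (hu : u ∈ V.A e) : ∃ z ∈ V.A d, V.mv e z = u := by
  haveI := V.finite
  let f : V.A d → V.A e := fun z => ⟨V.mv e z, V.mv_mem _ _⟩
  let f' : V.A e → V.A d := fun z => ⟨V.mv d z, V.mv_mem _ _⟩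
  have hf : Function.Injective f := fun x y hxy => by
    have h : V.mv e ((x : M) - y) = 0 := by
      rw [map_sub, show V.mv e x = V.mv e y from congrArg Subtype.val hxy, sub_self]
    exact Subtype.ext (sub_eq_zero.1 (eq_zero_of_moved V hD hE hd he hm (sub_mem x.2 y.2) h))
  have hf' : Function.Injective f' := fun x y hxy => by
    have h : V.mv d ((x : M) - y) = 0 := by
      rw [map_sub, show V.mv d x = V.mv d y from congrArg Subtype.val hxy, sub_self]
    exact Subtype.ext (sub_eq_zero.1 (eq_zero_of_moved V hE hD he hd (fun hc => hm hc.symm) (sub_mem x.2 y.2) h))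
  obtain ⟨z, hz⟩ := (hf.bijective_of_nat_card_le (Nat.card_le_card_of_injective f' hf')).2 ⟨u, hu⟩
  exact ⟨z, z.2, congrArg Subtype.val hz⟩

include V in
/-- A member moved modulo the core does not commute with its image. -/
theorem not_commute_moved (hD : Trans D) (hE : Trans E) (hd : d ∈ D) (he : e ∈ E)
    (hm : ¬ Commute (red e) (red d)) : ¬ Commute d (cj e d) := by
  intro hc
  have hd1 := cj_mem_mixed hD hE he hd
  obtain ⟨a, ha, had, had1⟩ : ∃ a ∈ D, ¬ Commute a d ∧ Commute a (cj e d) := by
    have hns : ¬ SameComm D d (cj e d) := fun h =>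
      hm ((red_cj_eq_self hE he).1 (red_of_sameComm hD hd hd1 h).symm)
    simp only [SameComm] at hns
    push Not at hns
    obtain ⟨x, hx, hx'⟩ := hns
    rcases hx' with ⟨h1, h2⟩ | ⟨h1, h2⟩
    · refine ⟨cj e x, cj_mem_mixed hD hE he hx, fun h => h2 ?_, (commute_cj hE he).2 h1.symm⟩
      rw [commute_cj_left hE he] at h
      exact h.symm
    · exact ⟨x, hx, fun h => h1 h.symm, h2.symm⟩
  have hma : ¬ Commute (red e) (red a) := by
    intro h
    have h1 := sameComm_of_red hD (cj_mem_mixed hD hE he ha) ha ((red_cj_eq_self hE he).2 h)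
    exact had ((h1 d hd).1 ((commute_cj_left hE he).2 had1))
  obtain ⟨z, hz, hz0⟩ := exists_mem_A V hD hd
  obtain ⟨w, hw, hwz⟩ := exists_preimage V hD hE ha he hma (V.mv_mem e z)
  have hz1 := act_mem_A_cj V hE he hz
  have hw1 := act_mem_A_cj V hE he hw
  have hc1 : Commute d (cj e a) := by
    rw [Commute.symm_iff, commute_cj_left hE he]
    exact had1
  have h1 := congrArg (V.mv d) hwz
  rw [V.mv_apply e w, V.mv_apply e z, map_add, map_add, mv_of_commute V hD (cj_mem_mixed hD hE he ha) hd hc1 hw1,
    mv_of_commute V hD hd1 hd hc hz1, V.mv_of_mem_self (mul_self hD hd) hz, zero_add, zero_add] at h1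
  have hw0 := eq_zero_of_fixed V hD ha hd had hw h1
  rw [hw0, map_zero] at hwz
  exact hz0 (eq_zero_of_moved V hD hE hd he hm hz hwz.symm)

omit [Finite G] in
theorem cj_third_fixed (hD : Trans D) (hE : Trans E) (hd : d ∈ D) (he : e ∈ E)
    (hn : ¬ Commute d (cj e d)) : cj e (cj d (cj e d)) = cj d (cj e d) := by
  rw [cj_cj_dist hE he d (cj e d), cj_cj hE he, ← braid hD hd (cj_mem_mixed hD hE he hd) hn]

/-- `c` is a member of `D` sharing a nonzero displacement with `e`. -/
def Twin (c e : G) : Prop := ∃ u ∈ V.A c, u ∈ V.A e ∧ u ≠ 0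

theorem exists_twin (hD : Trans D) (hE : Trans E) (hd : d ∈ D) (he : e ∈ E)
    (hm : ¬ Commute (red e) (red d)) : Twin V (cj d (cj e d)) e := by
  have hn := not_commute_moved V hD hE hd he hm
  have hd1 := cj_mem_mixed hD hE he hd
  obtain ⟨z, hz, hz0⟩ := exists_mem_A V hD hd
  let K : M → M := fun x => V.mv d (V.act e x)
  have hKmem : ∀ x ∈ V.A d, K x ∈ V.A d := fun x _ => V.mv_mem _ _
  have hKK : ∀ x ∈ V.A d, K (K x) = x := fun x hx => by
    show V.mv d (V.act e (V.mv d (V.act e x))) = x
    rw [V.act_mv, ← cj_conj hE he, V.act_act_self (mul_self hE he),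
      mv_mv_back V hD hd hd1 hn hx]
  have hKadd : ∀ x y, K (x + y) = K x + K y := fun x y => by
    show V.mv d (V.act e (x + y)) = _
    rw [map_add, map_add]
  obtain ⟨z', hz', hz'0, hK⟩ : ∃ z' ∈ V.A d, z' ≠ 0 ∧ K z' = z' := by
    by_cases h : z + K z = 0
    · exact ⟨z, hz, hz0, (Core.eq_of_add V _ _ h).symm⟩
    · exact ⟨_, add_mem hz (hKmem z hz), h, by rw [hKadd, hKK z hz, add_comm]⟩
  have he' : V.act e z' = V.mv (cj e d) z' := by
    conv_rhs => rw [← hK]
    exact (mv_mv_back V hD hd1 hd (fun h => hn h.symm) (act_mem_A_cj V hE he hz')).symm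
  have hu : V.mv e z' = V.mv (cj d (cj e d)) z' := by
    rw [mv_third V hD hd hd1 hn hz', V.mv_apply, he', add_comm]
  exact ⟨V.mv e z', hu ▸ V.mv_mem _ _, V.mv_mem _ _, fun h => hz'0 (eq_zero_of_moved V hD hE hd he hm hz' h)⟩

theorem fixed_of_commute_twin (hD : Trans D) (hE : Trans E) (hc : c ∈ D) (he : e ∈ E) (ha : a ∈ D)
    (ht : Twin V c e) (h : Commute a c) : Commute (red e) (red a) := by
  obtain ⟨u, h1, h2, h0⟩ := ht
  by_contra hm
  exact h0 (eq_zero_of_moved V hE hD he ha (fun hc' => hm hc'.symm) h2 (mv_of_commute V hD hc ha h h1))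

theorem twin_red (hD : Trans D) (hE : Trans E) (hd : d ∈ D) (he : e ∈ E) (hc : c ∈ D)
    (hm : ¬ Commute (red e) (red d)) (ht : Twin V c e) : red c = red (cj d (cj e d)) := by
  have hn := not_commute_moved V hD hE hd he hm
  have hd1 := cj_mem_mixed hD hE he hd
  have hm1 : ¬ Commute (red e) (red (cj e d)) := fun h => by
    have h1 := (red_cj_eq_self hE he).2 h
    rw [cj_cj hE he] at h1
    exact hm ((red_cj_eq_self hE he).1 h1.symm)
  have hcd : ¬ Commute c d := fun h => hm (fixed_of_commute_twin V hD hE hc he hd ht h.symm)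
  have hcd1 : ¬ Commute c (cj e d) := fun h => hm1 (fixed_of_commute_twin V hD hE hc he hd1 ht h.symm)
  obtain ⟨u, h1, h2, h0⟩ := ht
  obtain ⟨z, hz, rfl⟩ := exists_preimage V hD hE hd he hm h2
  have hz1 := act_mem_A_cj V hE he hz
  have hsum : V.mv e z = z + V.act e z := by rw [V.mv_apply, add_comm]
  by_cases h : Commute c (cj d (cj e d))
  · exact red_of_common V hD hc (cj_mem hD hd hd1) h1
      (mem_of_line_fixed V hD hd hd1 hn hz hz1 hsum (mv_of_commute V hD hc (cj_mem hD hd hd1) h.symm h1)) h0
  · exact absurd (eq_zero_of_line V hD hc hd hd1 hn hcd hcd1 h h1 hz hz1 hsum) h0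

include V in
/-- Each member of the second class is congruent to one of the first. -/
theorem exists_red_eq (hD : Trans D) (hE : Trans E) (he : e ∈ E) : ∃ d ∈ D, red d = red e := by
  by_contra hcon
  push Not at hcon
  by_cases hall : ∀ d ∈ D, Commute (red e) (red d)
  · refine notMem_core V hE he (mem_core_of_central e (red_mul_self hE he) fun g => ?_)
    have hg : g ∈ Subgroup.closure D := hD.gen ▸ Subgroup.mem_top g
    induction hg using Subgroup.closure_induction with
    | mem x hx => exact hall x hx
    | one => rw [map_one]; exact Commute.one_right _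
    | mul x y _ _ hx hy => rw [map_mul]; exact hx.mul_right hy
    | inv x _ hx => rw [map_inv]; exact hx.inv_right
  push Not at hall
  obtain ⟨d0, hd0, hm0⟩ := hall
  have hd01 := cj_mem_mixed hD hE he hd0
  have hn0 := not_commute_moved V hD hE hd0 he hm0
  set c := cj d0 (cj e d0) with hcdef
  have hc : c ∈ D := cj_mem hD hd0 hd01
  have ht : Twin V c e := exists_twin V hD hE hd0 he hm0
  have hec : Commute (red e) (red c) := (red_cj_eq_self hE he).1 (by rw [hcdef, cj_third_fixed hD hE hd0 he hn0])
  have key : ∀ d ∈ D, red (cj c d) = red (cj e d) := by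
    intro d hd
    by_cases hm : Commute (red e) (red d)
    · rw [(red_cj_eq_self hE he).2 hm]
      refine congrArg red (cj_of_commute hD hc ?_)
      by_contra hcd
      have hc' : cj d c ∈ D := cj_mem hD hd hc
      have he' : red (cj d e) = red e := (red_cj_eq_self hD hd).2 hm.symm
      have ht' : Twin V (cj d c) e := by
        obtain ⟨u, h1, h2, h0⟩ := ht
        refine ⟨V.act d u, ?_, ?_, fun h => h0 ?_⟩
        · exact act_mem_A_cj V hD hd h1
        · rw [← V.A_congr he']
          exact act_mem_A_cj V hD hd h2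
        · rw [← V.act_act_self (mul_self hD hd) u, h, map_zero]
      have hs := sameComm_of_red hD hc' hc (twin_red V hD hE hd0 he hc' hm0 ht')
      exact not_commute_cj' hD hd hc (fun h => hcd h.symm) (commute_of_sameComm hc' hs).symm
    · have h := twin_red V hD hE hd he hc hm ht
      rw [cj_def, map_mul, map_mul, h, ← map_mul, ← map_mul, ← cj_def,
        cj_third hD hd (cj_mem_mixed hD hE he hd) (not_commute_moved V hD hE hd he hm)]
  have hec2 : red (e * c) * red (e * c) = 1 := by
    rw [map_mul, mul_assoc, ← mul_assoc (red c), ← hec.eq, mul_assoc (red e), red_mul_self hD hc, mul_one,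
      red_mul_self hE he]
  refine hcon c hc ?_
  have hmem : e * c ∈ pCore 2 G := by
    refine mem_core_of_central (e * c) hec2 fun g => ?_
    have hg : g ∈ Subgroup.closure D := hD.gen ▸ Subgroup.mem_top g
    induction hg using Subgroup.closure_induction with
    | mem x hx =>
      have h := key x hx
      rw [cj_def, cj_def, map_mul, map_mul, map_mul, map_mul] at h
      show red (e * c) * red x = red x * red (e * c)
      rw [map_mul]
      calc red e * red c * red x = red e * (red c * red x * red c) * red c := by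
            simp only [mul_assoc, red_mul_self hD hc, mul_one]
        _ = red e * (red e * red x * red e) * red c := by rw [h]
        _ = red x * (red e * red c) := by
            simp only [← mul_assoc, red_mul_self hE he, one_mul]
    | one => rw [map_one]; exact Commute.one_right _
    | mul x y _ _ hx hy => rw [map_mul]; exact hx.mul_right hy
    | inv x _ hx => rw [map_inv]; exact hx.inv_right
  exact ((red_eq_iff hE he).2 hmem).symm

end Cfsg.Lib.Fischer.UniqueClass
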